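import Mathlib
import Cfsg.Prelude.Def_GeometricClasses
import Cfsg.Agent.Lib.ElementOrders.UnitaryModel
import Cfsg.Agent.Lib.Forms.Bridge
import Cfsg.Agent.Lib.LinClasses.Model

/-!
A non-degenerate unitary form over a field of `q₀²` elements in twisted standard coordinates, conjugation into its
similarity group through a model, and matrices preserving no such form up to a scalar.
-/

set_option autoImplicit false

open scoped Matrix
open Cfsg.Agent.Lib

namespace Cfsg.Agent.Lib.UnitDerange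

variable {F : Type*} [Field F]

section form

variable [Fintype F] {ι : Type} [Fintype ι] {q₀ : ℕ} {f : (ι → F) → (ι → F) → F}

theorem smul_right (hf : Cfsg.Geo.IsUnitaryFormPow q₀ f) (c : F) (u v : ι → F) :
    f u (c • v) = c ^ q₀ * f u v := by
  rw [hf.herm, hf.smul_left, mul_pow, ← hf.herm]

theorem add_right (hF : Fintype.card F = q₀ ^ 2) (hf : Cfsg.Geo.IsUnitaryFormPow q₀ f) (u v w : ι → F) :
    f u (v + w) = f u v + f u w := by
  rw [hf.herm, hf.add_left, ← Forms.qPowHom_apply hF, map_add, Forms.qPowHom_apply, Forms.qPowHom_apply,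
    ← hf.herm, ← hf.herm]

theorem sum_left (hf : Cfsg.Geo.IsUnitaryFormPow q₀ f) {α : Type*} (s : Finset α) (g : α → ι → F) (v : ι → F) :
    f (∑ a ∈ s, g a) v = ∑ a ∈ s, f (g a) v :=
  map_sum (AddMonoidHom.mk' (fun u => f u v) fun x y => hf.add_left x y v) g s

theorem sum_right (hF : Fintype.card F = q₀ ^ 2) (hf : Cfsg.Geo.IsUnitaryFormPow q₀ f) {α : Type*} (s : Finset α)
    (g : α → ι → F) (v : ι → F) : f v (∑ a ∈ s, g a) = ∑ a ∈ s, f v (g a) :=
  map_sum (AddMonoidHom.mk' (fun u => f v u) fun x y => add_right hF hf v x y) g s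

variable [DecidableEq ι]

theorem eq_sum_gram (hF : Fintype.card F = q₀ ^ 2) (hf : Cfsg.Geo.IsUnitaryFormPow q₀ f) (u v : ι → F) :
    f u v = ∑ i, ∑ j, u i * v j ^ q₀ * f (Pi.single i 1) (Pi.single j 1) := by
  conv_lhs => rw [show u = ∑ i, u i • (Pi.single i 1 : ι → F) by simp [← Pi.single_smul', Finset.univ_sum_single],
    show v = ∑ i, v i • (Pi.single i 1 : ι → F) by simp [← Pi.single_smul', Finset.univ_sum_single]]
  rw [sum_left hf]
  refine Finset.sum_congr rfl fun i _ => ?_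
  rw [sum_right hF hf]
  refine Finset.sum_congr rfl fun j _ => ?_
  rw [hf.smul_left, smul_right hf, mul_assoc]

theorem det_gram_ne_zero (hF : Fintype.card F = q₀ ^ 2) (hf : Cfsg.Geo.IsUnitaryFormPow q₀ f) :
    (Matrix.of fun i j => f (Pi.single i 1) (Pi.single j 1) : Matrix ι ι F).det ≠ 0 := by
  intro h0
  obtain ⟨v, hv0, hv⟩ := Matrix.exists_vecMul_eq_zero_iff.2 h0
  obtain ⟨⟨w, hw⟩, ⟨w', hw'⟩⟩ := hf.nondegenerate v hv0
  have key : ∀ w, f v w = 0 := fun w => by
    rw [eq_sum_gram hF hf, Finset.sum_comm]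
    refine Finset.sum_eq_zero fun j _ => ?_
    have := congrFun hv j
    simp only [Matrix.vecMul, dotProduct, Matrix.of_apply, Pi.zero_apply] at this
    calc _ = w j ^ q₀ * ∑ i, v i * f (Pi.single i 1) (Pi.single j 1) := by
          rw [Finset.mul_sum]; exact Finset.sum_congr rfl fun i _ => by ring
      _ = 0 := by rw [this, mul_zero]
  have h2 : ∀ w, f w v = 0 := fun w => by
    have : q₀ ≠ 0 := by have := Forms.two_le_of_card_sq hF; omega
    rw [hf.herm, key, zero_pow this]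
  first | exact hw (key w) | exact hw (h2 w)

end form

/-- Standard coordinates. -/
theorem exists_hermCoords [Fintype F] {q₀ n : ℕ} (hF : Fintype.card F = q₀ ^ 2)
    {f : (Fin n → F) → (Fin n → F) → F} (hf : Cfsg.Geo.IsUnitaryFormPow q₀ f) :
    ∃ e : (Fin n → F) ≃ₗ[F] (Fin n → F), ∀ u v, f (e u) (e v) = Cfsg.hermForm n F q₀ u v := by
  classical
  set G : Matrix (Fin n) (Fin n) F := Matrix.of fun i j => f (Pi.single i 1) (Pi.single j 1) with hG
  obtain ⟨V, hV, hone⟩ := ElementOrders.exists_orthonormal (Forms.qPowHom_ne_id hF) (Forms.qPowHom_qPowHom hF)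
    (G := G) ⟨fun i j => by rw [Forms.qPowHom_apply]; exact hf.herm _ _, det_gram_ne_zero hF hf⟩
  have hVu : IsUnit V.det := isUnit_iff_ne_zero.2 hV
  let e : (Fin n → F) ≃ₗ[F] (Fin n → F) :=
    LinearEquiv.ofLinear (Matrix.toLin' V) (Matrix.toLin' V⁻¹)
      (by rw [← Matrix.toLin'_mul, Matrix.mul_nonsing_inv V hVu, Matrix.toLin'_one])
      (by rw [← Matrix.toLin'_mul, Matrix.nonsing_inv_mul V hVu, Matrix.toLin'_one])
  have hcol : ∀ a b, f (fun i => V i a) (fun j => V j b) = (1 : Matrix (Fin n) (Fin n) F) a b := fun a b => by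
    rw [eq_sum_gram hF hf, ← hone, Matrix.mul_apply, Finset.sum_comm]
    simp only [Matrix.mul_apply, Matrix.transpose_apply, Matrix.map_apply, Forms.qPowHom_apply, Finset.sum_mul, hG,
      Matrix.of_apply]
    exact Finset.sum_congr rfl fun j _ => Finset.sum_congr rfl fun i _ => by ring
  refine ⟨e, fun u v => ?_⟩
  have hdec : ∀ u : Fin n → F, e u = ∑ a, u a • (fun i => V i a) := fun u => funext fun i => by
    simp [e, Matrix.mulVec, dotProduct, mul_comm]
  rw [hdec, hdec, sum_left hf]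
  refine Finset.sum_congr rfl fun a _ => ?_
  rw [sum_right hF hf, Finset.sum_eq_single a]
  · rw [hf.smul_left, smul_right hf, hcol, Matrix.one_apply_eq, mul_one]
  · intro b _ hb
    rw [hf.smul_left, smul_right hf, hcol, Matrix.one_apply_ne hb.symm, mul_zero, mul_zero]
  · simp

/-- Twisted standard coordinates: an involution of the index set and admissible weights. -/
theorem exists_model_coords [Fintype F] {q₀ n : ℕ} (hF : Fintype.card F = q₀ ^ 2)
    {f : (Fin n → F) → (Fin n → F) → F} (hf : Cfsg.Geo.IsUnitaryFormPow q₀ f)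
    {κ : Type*} [Fintype κ] (hκ : Fintype.card κ = n) (π : κ → κ) (hπ : Function.Involutive π) (w : κ → F)
    (hw0 : ∀ i, w i ≠ 0) (hw : ∀ i, w (π i) = w i ^ q₀) :
    ∃ Φ : (κ → F) ≃ₗ[F] (Fin n → F), ∀ u v, f (Φ u) (Φ v) = ∑ i, w i * (u i * v (π i) ^ q₀) := by
  classical
  let eκ : κ ≃ Fin n := Fintype.equivFinOfCardEq hκ
  let R : (κ → F) ≃ₗ[F] (Fin n → F) := LinearEquiv.funCongrLeft F F eκ.symm
  let g : (Fin n → F) → (Fin n → F) → F := fun u v =>
    ∑ i, w i * (u (eκ i) * v (eκ (π i)) ^ q₀)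
  have hq : q₀ ≠ 0 := by have := Forms.two_le_of_card_sq hF; omega
  have hg : Cfsg.Geo.IsUnitaryFormPow q₀ g := by
    constructor
    · intro x y v
      simp only [g, ← Finset.sum_add_distrib]
      exact Finset.sum_congr rfl fun i _ => by rw [Pi.add_apply]; ring
    · intro c x v
      simp only [g, Finset.mul_sum]
      exact Finset.sum_congr rfl fun i _ => by rw [Pi.smul_apply, smul_eq_mul]; ring
    · intro u v
      simp only [g]
      rw [← Forms.qPowHom_apply hF, map_sum]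
      refine Fintype.sum_bijective π hπ.bijective _ _ fun i => ?_
      rw [Forms.qPowHom_apply, mul_pow, mul_pow, hπ i, hw i, ← pow_mul (w i) q₀ q₀, ← sq, ← hF, FiniteField.pow_card,
        ← pow_mul (u (eκ i)) q₀ q₀, ← sq, ← hF, FiniteField.pow_card]
      ring
    · intro u hu
      obtain ⟨j, hj⟩ := Function.ne_iff.1 hu
      obtain ⟨i, rfl⟩ := eκ.surjective j
      have h1 : g u (Pi.single (eκ (π i)) 1) ≠ 0 := by
        simp only [g]
        rw [Finset.sum_eq_single i]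
        · rw [Pi.single_eq_same, one_pow, mul_one]
          exact mul_ne_zero (hw0 i) hj
        · intro b _ hb
          rw [Pi.single_eq_of_ne (fun e => hb (hπ.injective (eκ.injective e))), zero_pow hq, mul_zero, mul_zero]
        · simp
      have h2 : g (Pi.single (eκ (π i)) 1) u ≠ 0 := by
        simp only [g]
        rw [Finset.sum_eq_single (π i)]
        · rw [hπ i, Pi.single_eq_same, one_mul]
          exact mul_ne_zero (hw0 _) (pow_ne_zero _ hj)
        · intro b _ hb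
          rw [Pi.single_eq_of_ne (fun e => hb (eκ.injective e)), zero_mul, mul_zero]
        · simp
      exact ⟨⟨_, h2⟩, ⟨_, h1⟩⟩
  obtain ⟨ef, hef⟩ := exists_hermCoords hF hf
  obtain ⟨eg, heg⟩ := exists_hermCoords hF hg
  refine ⟨(R.trans eg.symm).trans ef, fun u v => ?_⟩
  rw [LinearEquiv.trans_apply, LinearEquiv.trans_apply, LinearEquiv.trans_apply, LinearEquiv.trans_apply, hef,
    ← heg, eg.apply_symm_apply, eg.apply_symm_apply]
  simp [g, R, LinearEquiv.funCongrLeft_apply, LinearMap.funLeft_apply]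

theorem det_eq_one_iff {ι : Type} [Fintype ι] [DecidableEq ι] {x : GL ι F} :
    x ∈ Cfsg.Geo.specialLinear ι F ↔ (x : Matrix ι ι F).det = 1 := by
  rw [Cfsg.Geo.specialLinear, MonoidHom.mem_ker, Units.ext_iff]
  rfl

/-- An element with a model realised by a similitude is `SL`-conjugate into the similarity group. -/
theorem exists_conj_of_model {ι : Type} [Fintype ι] [DecidableEq ι] {f : (ι → F) → (ι → F) → F} {x : GL ι F}
    {κ : Type*} [Fintype κ] [DecidableEq κ] {M : Matrix κ κ F}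
    (hx : LinClasses.IsModel (x : Matrix ι ι F) M) (hM : LinClasses.HasDetCentralizer M)
    (Φ : (κ → F) ≃ₗ[F] (ι → F)) {c : F} (hc : c ≠ 0)
    (hΦ : ∀ u v, f (Φ (M *ᵥ u)) (Φ (M *ᵥ v)) = c * f (Φ u) (Φ v)) :
    ∃ g ∈ Cfsg.Geo.specialLinear ι F, g⁻¹ * x * g ∈ Cfsg.Geo.similarityGroup f := by
  obtain ⟨y, hy, -⟩ := LinClasses.exists_isModel Φ M
  obtain ⟨P, hP, hPx⟩ := LinClasses.exists_det_one_conj hx ⟨Φ, hy⟩ hM
  let g : GL ι F := Matrix.GeneralLinearGroup.mkOfDetNeZero P (by rw [hP]; exact one_ne_zero)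
  have hg : (g : Matrix ι ι F) = P := rfl
  refine ⟨g, det_eq_one_iff.2 (by rw [hg, hP]), Units.mk0 c hc, fun u v => ?_⟩
  have h : ((g⁻¹ * x * g : GL ι F) : Matrix ι ι F) = y := by
    rw [Units.val_mul, Units.val_mul, mul_assoc, hg, hPx, ← hg, ← mul_assoc, Units.inv_mul, one_mul]
  obtain ⟨u, rfl⟩ := Φ.surjective u
  obtain ⟨v, rfl⟩ := Φ.surjective v
  rw [h, hy, hy, hΦ, Units.val_mk0]

/-- `x` preserves no non-degenerate unitary form up to a scalar. -/
def NoHermSimilitude {ι : Type} [Fintype ι] (q₀ : ℕ) (x : Matrix ι ι F) : Prop :=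
  ∀ f : (ι → F) → (ι → F) → F, Cfsg.Geo.IsUnitaryFormPow q₀ f →
    ∀ c : F, c ≠ 0 → ¬ ∀ u v, f (x *ᵥ u) (x *ᵥ v) = c * f u v

theorem NoHermSimilitude.not_mem {ι : Type} [Fintype ι] [DecidableEq ι] {q₀ : ℕ}
    {f : (ι → F) → (ι → F) → F} (hf : Cfsg.Geo.IsUnitaryFormPow q₀ f) {x : GL ι F}
    (hx : NoHermSimilitude q₀ (x : Matrix ι ι F)) (g : GL ι F) :
    g⁻¹ * x * g ∉ Cfsg.Geo.similarityGroup f := by
  rintro ⟨c, hc⟩
  set G := ((g⁻¹ : GL ι F) : Matrix ι ι F) with hG
  refine hx (fun u v => f (G *ᵥ u) (G *ᵥ v)) ⟨fun u u' v => ?_, fun a u v => ?_, fun u v => hf.herm _ _,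
    fun v hv => ?_⟩ c c.ne_zero fun u v => ?_
  · simp only [Matrix.mulVec_add, hf.add_left]
  · simp only [Matrix.mulVec_smul, hf.smul_left]
  · have hv' : G *ᵥ v ≠ 0 := fun h => hv (by
      have h2 := congrArg ((g : Matrix ι ι F) *ᵥ ·) h
      simpa [hG, Matrix.mulVec_mulVec] using h2)
    obtain ⟨⟨a, ha⟩, ⟨b, hb⟩⟩ := hf.nondegenerate _ hv'
    exact ⟨⟨(g : Matrix ι ι F) *ᵥ a, by simpa [hG, Matrix.mulVec_mulVec] using ha⟩,
      ⟨(g : Matrix ι ι F) *ᵥ b, by simpa [hG, Matrix.mulVec_mulVec] using hb⟩⟩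
  · have hk : ∀ w, G *ᵥ ((x : Matrix ι ι F) *ᵥ w) =
        ((g⁻¹ * x * g : GL ι F) : Matrix ι ι F) *ᵥ (G *ᵥ w) := fun w => by
      rw [Matrix.mulVec_mulVec, Matrix.mulVec_mulVec, hG, ← Units.val_mul, ← Units.val_mul]
      congr 2
      group
    show f (G *ᵥ ((x : Matrix ι ι F) *ᵥ u)) (G *ᵥ ((x : Matrix ι ι F) *ᵥ v)) = (c : F) * f (G *ᵥ u) (G *ᵥ v)
    rw [hk, hk, hc]

end Cfsg.Agent.Lib.UnitDerange
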