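import Mathlib
import Cfsg.Agent.Lib.UnitDerange.Basic
import Cfsg.Agent.Lib.Classical.UnitaryOrder
import Cfsg.Agent.Lib.OrthDerange.Index
import Cfsg.Agent.Lib.LinGroup.Order

/-!
Primes dividing the index of the similarity group of a unitary form in `SL_n(q₀²)`.
-/

set_option autoImplicit false

open scoped Matrix
open Cfsg.Agent.Lib

namespace Cfsg.Agent.Lib.UnitDerange

variable {F : Type*} [Field F] [Fintype F] {q₀ n : ℕ}

theorem card_SU_dvd (hF : Fintype.card F = q₀ ^ 2) {f : (Fin n → F) → (Fin n → F) → F}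
    (hf : Cfsg.Geo.IsUnitaryFormPow q₀ f) :
    Nat.card (Cfsg.SU n F q₀) ∣
      Nat.card ↥((Cfsg.Geo.similarityGroup f).subgroupOf (Cfsg.Geo.specialLinear (Fin n) F)) := by
  classical
  obtain ⟨e, he⟩ := exists_hermCoords hF hf
  let E : GL (Fin n) F := Matrix.GeneralLinearGroup.mkOfDetNeZero (LinearMap.toMatrix' e.toLinearMap)
    (by rw [LinearMap.det_toMatrix']; exact (LinearEquiv.isUnit_det' e).ne_zero)
  have hE : ∀ w, (E : Matrix (Fin n) (Fin n) F) *ᵥ w = e w := fun w => LinearMap.toMatrix'_mulVec _ _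
  let κ : Cfsg.SU n F q₀ →* GL (Fin n) F :=
    (MulAut.conj E).toMonoidHom.comp ((Matrix.SpecialLinearGroup.toGL).comp (Cfsg.SU n F q₀).subtype)
  have hκ1 : ∀ g, κ g ∈ Cfsg.Geo.specialLinear (Fin n) F := fun g => by
    show Matrix.GeneralLinearGroup.det (E * Matrix.SpecialLinearGroup.toGL g.1 * E⁻¹) = 1
    rw [map_mul, map_mul, map_inv,
      show Matrix.GeneralLinearGroup.det (Matrix.SpecialLinearGroup.toGL g.1) = 1 from Units.ext g.1.2, mul_one,
      mul_inv_cancel]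
  have hinv : ∀ w, ∃ w', w = e w' ∧ ((E⁻¹ : GL (Fin n) F) : Matrix (Fin n) (Fin n) F) *ᵥ w = w' := fun w => by
    obtain ⟨w', rfl⟩ := e.surjective w
    exact ⟨w', rfl, by rw [← hE, Matrix.mulVec_mulVec, Units.inv_mul, Matrix.one_mulVec]⟩
  have hκ2 : ∀ g, κ g ∈ Cfsg.Geo.similarityGroup f := fun g => ⟨1, fun u v => by
    obtain ⟨u', rfl, hu⟩ := hinv u
    obtain ⟨v', rfl, hv⟩ := hinv v
    show f (((E * Matrix.SpecialLinearGroup.toGL g.1 * E⁻¹ : GL (Fin n) F) : Matrix (Fin n) (Fin n) F) *ᵥ e u')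
      (((E * Matrix.SpecialLinearGroup.toGL g.1 * E⁻¹ : GL (Fin n) F) : Matrix (Fin n) (Fin n) F) *ᵥ e v') = _
    rw [Units.val_mul, Units.val_mul, ← Matrix.mulVec_mulVec, ← Matrix.mulVec_mulVec, hu, hE,
      ← Matrix.mulVec_mulVec, ← Matrix.mulVec_mulVec, hv, hE, he, he, Units.val_one, one_mul]
    exact g.2 u' v'⟩
  let ψ : Cfsg.SU n F q₀ →* ↥((Cfsg.Geo.similarityGroup f).subgroupOf (Cfsg.Geo.specialLinear (Fin n) F)) :=
    (κ.codRestrict _ hκ1).codRestrict _ hκ2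
  refine Subgroup.card_dvd_of_injective ψ fun a b h => ?_
  have h' : κ a = κ b := congrArg (fun t => t.1.1) h
  exact Subtype.ext (Matrix.SpecialLinearGroup.toGL_injective ((MulAut.conj E).injective h'))

/-- A prime dividing the index. -/
theorem exists_of_dvd_relIndex (hF : Fintype.card F = q₀ ^ 2) (hn : 1 ≤ n)
    {f : (Fin n → F) → (Fin n → F) → F} (hf : Cfsg.Geo.IsUnitaryFormPow q₀ f) {r : ℕ} [Fact r.Prime]
    (hrq : ¬ r ∣ q₀) (hΩ : r ∣ (Cfsg.Geo.similarityGroup f).relIndex (Cfsg.Geo.specialLinear (Fin n) F)) :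
    ∃ j, 2 ≤ j ∧ j ≤ n ∧ (-(q₀ : ZMod r)) ^ j = -1 := by
  classical
  have hrp : r.Prime := Fact.out
  have hq := Forms.two_le_of_card_sq hF
  have : Nonempty (Fin n) := ⟨⟨0, hn⟩⟩
  set I := (Cfsg.Geo.similarityGroup f).relIndex (Cfsg.Geo.specialLinear (Fin n) F) with hI
  have hS : Nat.card ↥(Cfsg.Geo.specialLinear (Fin n) F) = Nat.card (Matrix.SpecialLinearGroup (Fin n) F) :=
    (Nat.card_congr LinGroup.slEquivKerDet.toEquiv).symm
  have h1 : I * Nat.card (Cfsg.SU n F q₀) ∣ Nat.card (Matrix.SpecialLinearGroup (Fin n) F) := by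
    rw [← hS, hI, Subgroup.relIndex]
    refine (Nat.mul_dvd_mul_left _ (card_SU_dvd hF hf)).trans ?_
    rw [mul_comm, Subgroup.card_mul_index]
  have h2 : I * Nat.card (Cfsg.GU n F q₀) * (Fintype.card F - 1) ∣
      (∏ i : Fin n, (Fintype.card F ^ n - Fintype.card F ^ (i : ℕ))) * (q₀ + 1) := by
    rw [← Classical.succ_mul_natCard_SU hF n hn, ← LinGroup.card_SL_mul n hn]
    refine dvd_trans ?_ (Nat.mul_dvd_mul_right (Nat.mul_dvd_mul_left _ h1) _)
    exact dvd_of_eq (by ring)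
  obtain ⟨a, ha⟩ := OrthDerange.prod_GL_split (Fintype.card F) n
  rw [ha, Classical.natCard_GU hF] at h2
  let fA : ℕ → ℕ := fun i => if Even i then q₀ ^ (i + 1) + 1 else q₀ ^ (i + 1) - 1
  let fB : ℕ → ℕ := fun i => if Even i then q₀ ^ (i + 1) - 1 else q₀ ^ (i + 1) + 1
  have hAB : ∀ i, Fintype.card F ^ (i + 1) - 1 = fA i * fB i := fun i => by
    have h := Nat.sq_sub_sq (q₀ ^ (i + 1)) 1
    rw [one_pow, ← pow_mul, mul_comm (i + 1) 2, pow_mul, ← hF] at h
    simp only [fA, fB]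
    split_ifs <;> rw [h]
    exact mul_comm _ _
  have hpos : ∀ i, 0 < fA i := fun i => by
    simp only [fA]
    split_ifs
    · exact Nat.succ_pos _
    · exact Nat.sub_pos_of_lt (Nat.one_lt_pow (Nat.succ_ne_zero i) (by omega))
  obtain ⟨m, rfl⟩ : ∃ m, n = m + 1 := ⟨n - 1, by omega⟩
  set A := ∏ i ∈ Finset.range (m + 1), fA i with hA
  set B := ∏ i ∈ Finset.range m, fB (i + 1) with hB
  have hq1 : Fintype.card F - 1 = (q₀ + 1) * (q₀ - 1) := by rw [hF, ← Nat.sq_sub_sq, one_pow]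
  have h3 : I * q₀ ^ ((m + 1) * (m + 1 - 1) / 2) * (A * ((q₀ + 1) * (q₀ - 1))) ∣
      (Fintype.card F ^ a * B) * (A * ((q₀ + 1) * (q₀ - 1))) := by
    have e : ∏ j ∈ Finset.range (m + 1), (Fintype.card F ^ (j + 1) - 1) = A * (B * (q₀ - 1)) := by
      rw [Finset.prod_congr rfl fun i _ => hAB i, Finset.prod_mul_distrib, Finset.prod_range_succ' fB, hA, hB]
      simp [fB]
    rw [e, hq1] at h2
    convert h2 using 1 <;> ring
  have h4 := Nat.dvd_of_mul_dvd_mul_right (Nat.mul_pos (Finset.prod_pos fun i _ => hpos i)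
    (Nat.mul_pos (Nat.succ_pos _) (Nat.sub_pos_of_lt (show 1 < q₀ by omega)))) h3
  have h5 : r ∣ B := by
    rcases hrp.dvd_mul.1 ((dvd_mul_of_dvd_left hΩ _).trans h4) with h | h
    · exact absurd (hrp.dvd_of_dvd_pow (show r ∣ q₀ ^ (2 * a) by rwa [pow_mul, ← hF])) hrq
    · exact h
  obtain ⟨i, hi, hri⟩ := (Prime.dvd_finsetProd_iff hrp.prime _).1 h5
  refine ⟨i + 2, by omega, by have := Finset.mem_range.1 hi; omega, ?_⟩
  have h0 : (fB (i + 1) : ZMod r) = 0 := (ZMod.natCast_eq_zero_iff _ _).2 hri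
  simp only [fB] at h0
  split_ifs at h0 with hev
  · rw [Nat.cast_sub (Nat.one_le_pow _ _ (by omega)), Nat.cast_pow, Nat.cast_one, sub_eq_zero] at h0
    rw [Odd.neg_pow (show Odd (i + 2) by rw [show i + 2 = i + 1 + 1 by omega]; exact hev.add_one), h0]
  · push_cast at h0
    rw [Even.neg_pow (show Even (i + 2) by rw [show i + 2 = i + 1 + 1 by omega, Nat.even_add_one]; exact hev)]
    linear_combination h0

end Cfsg.Agent.Lib.UnitDerange
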