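import Mathlib
import Cfsg.Agent.Lib.UnitDerange.Basic
import Cfsg.Agent.Lib.LinClasses.SquareRoot

/-!
Elements of `SL_n(q₀²)` that are conjugate into the similarity group of a unitary form.
-/

set_option autoImplicit false

open scoped Matrix
open Cfsg.Agent.Lib Cfsg.Agent.Lib.LinClasses

namespace Cfsg.Agent.Lib.UnitDerange

variable {F : Type*} [Field F] [Fintype F] {q₀ n : ℕ} {f : (Fin n → F) → (Fin n → F) → F}

/-- A diagonalisable element with paired eigenvalues. -/
theorem diag_mem (hF : Fintype.card F = q₀ ^ 2) (hf : Cfsg.Geo.IsUnitaryFormPow q₀ f) {κ : Type*} [Fintype κ]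
    [DecidableEq κ] [Nonempty κ] {x : GL (Fin n) F} {d : κ → F}
    (hx : IsModel (x : Matrix (Fin n) (Fin n) F) (Matrix.diagonal d)) (π : κ → κ) (hπ : Function.Involutive π)
    {c : F} (hc : c ≠ 0) (h : ∀ i, d i * d (π i) ^ q₀ = c) :
    ∃ g ∈ Cfsg.Geo.specialLinear (Fin n) F, g⁻¹ * x * g ∈ Cfsg.Geo.similarityGroup f := by
  obtain ⟨Φ, hΦ⟩ := exists_model_coords hF hf (by rw [hx.card_eq, Fintype.card_fin]) π hπ (fun _ => (1 : F))
    (fun _ => one_ne_zero) (fun _ => (one_pow q₀).symm)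
  refine exists_conj_of_model hx (hasDetCentralizer_diagonal d) Φ hc fun u v => ?_
  rw [hΦ, hΦ, Finset.mul_sum]
  refine Finset.sum_congr rfl fun i _ => ?_
  rw [Matrix.mulVec_diagonal, Matrix.mulVec_diagonal, ← h i]
  ring

/-- `x² = s²` in odd characteristic. -/
theorem invol_split_mem (hF : Fintype.card F = q₀ ^ 2) (h2 : (2 : F) ≠ 0) (hq : Odd q₀) (hn : 1 ≤ n)
    (hf : Cfsg.Geo.IsUnitaryFormPow q₀ f) {x : GL (Fin n) F} {s : F} (hs0 : s ≠ 0)
    (hx : (x : Matrix (Fin n) (Fin n) F) * (x : Matrix (Fin n) (Fin n) F) = (s * s) • 1) :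
    ∃ g ∈ Cfsg.Geo.specialLinear (Fin n) F, g⁻¹ * x * g ∈ Cfsg.Geo.similarityGroup f := by
  obtain ⟨a, b, hab, hM⟩ := exists_isModel_split (s := s)
    (fun h => mul_ne_zero h2 hs0 (by linear_combination h)) hx
  rw [Fintype.card_fin] at hab
  have : Nonempty (Fin a ⊕ Fin b) := ⟨(finSumFinEquiv.trans (finCongr hab)).symm ⟨0, hn⟩⟩
  refine diag_mem hF hf hM id (fun _ => rfl) (mul_ne_zero hs0 (pow_ne_zero q₀ hs0)) fun i => ?_
  rcases i with i | i
  · simp
  · simp [hq.neg_pow]

/-- The swap of the two ends of the square-zero model. -/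
def sqSwap {r k : ℕ} : SquareZero.SqIdx r k → SquareZero.SqIdx r k
  | .inl i => .inr (.inr i)
  | .inr (.inl i) => .inr (.inl i)
  | .inr (.inr i) => .inl i

/-- `x² = s²` in characteristic two. -/
theorem invol_charTwo_mem [CharP F 2] (hF : Fintype.card F = q₀ ^ 2) (hn : 1 ≤ n)
    (hf : Cfsg.Geo.IsUnitaryFormPow q₀ f) {x : GL (Fin n) F} {s : F} (hs0 : s ≠ 0)
    (hx : (x : Matrix (Fin n) (Fin n) F) * (x : Matrix (Fin n) (Fin n) F) = (s * s) • 1) :
    ∃ g ∈ Cfsg.Geo.specialLinear (Fin n) F, g⁻¹ * x * g ∈ Cfsg.Geo.similarityGroup f := by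
  classical
  obtain ⟨r, k, hrk, hM⟩ := exists_isModel_charTwo hx
  rw [Fintype.card_fin] at hrk
  have hq : q₀ ≠ 0 := by have := Forms.two_le_of_card_sq hF; omega
  rcases eq_or_ne r 0 with rfl | hr
  · have hmodel : SquareZero.model F 0 k + s • 1 = Matrix.diagonal fun _ => s := by
      ext i j
      rcases i with i | i | i <;> first | exact i.elim0 | skip
      rcases j with j | j | j <;> first | exact j.elim0 | skip
      simp [SquareZero.model, Matrix.diagonal_apply, Matrix.one_apply]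
    rw [hmodel] at hM
    have : Nonempty (SquareZero.SqIdx 0 k) := ⟨.inr (.inl ⟨0, by omega⟩)⟩
    exact diag_mem hF hf hM id (fun _ => rfl) (mul_ne_zero hs0 (pow_ne_zero q₀ hs0)) fun i => rfl
  let w : SquareZero.SqIdx r k → F := fun t => match t with
    | .inl _ => s⁻¹
    | .inr (.inl _) => 1
    | .inr (.inr _) => s⁻¹ ^ q₀
  obtain ⟨Φ, hΦ⟩ := exists_model_coords hF hf (κ := SquareZero.SqIdx r k)
    (by simp only [Fintype.card_sum, Fintype.card_fin]; exact hrk) sqSwap
    (fun t => by rcases t with i | i | i <;> rfl) w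
    (fun t => by rcases t with i | i | i <;> simp [w, hs0])
    (fun t => by
      rcases t with i | i | i
      · rfl
      · exact (one_pow q₀).symm
      · show s⁻¹ = (s⁻¹ ^ q₀) ^ q₀
        rw [← pow_mul, ← sq, ← hF, FiniteField.pow_card])
  refine exists_conj_of_model hM (hasDetCentralizer_charTwo hr s) Φ (mul_ne_zero hs0 (pow_ne_zero q₀ hs0))
    fun u v => ?_
  have hMv : ∀ (u : SquareZero.SqIdx r k → F) t,
      ((SquareZero.model F r k + s • 1) *ᵥ u) t =
        s * u t + (match t with | .inr (.inr i) => u (.inl i) | _ => 0) := fun u t => by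
    rw [Matrix.add_mulVec, Pi.add_apply, Matrix.smul_mulVec, Matrix.one_mulVec, Pi.smul_apply, smul_eq_mul,
      add_comm]
    congr 1
    rcases t with i | i | i <;> simp [SquareZero.model, Matrix.mulVec, dotProduct, Fintype.sum_sum_type]
  have hadd : ∀ a b : F, (a + b) ^ q₀ = a ^ q₀ + b ^ q₀ := fun a b => by
    rw [← Forms.qPowHom_apply hF, map_add, Forms.qPowHom_apply, Forms.qPowHom_apply]
  have hinv : s ^ q₀ * (s⁻¹) ^ q₀ = 1 := by rw [← mul_pow, mul_inv_cancel₀ hs0, one_pow]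
  rw [hΦ, hΦ, Finset.mul_sum]
  simp only [Fintype.sum_sum_type, hMv, sqSwap, w, add_zero]
  rw [← add_assoc, ← add_assoc, add_right_comm, add_right_comm _ (∑ i : Fin k, _), ← Finset.sum_add_distrib,
    ← Finset.sum_add_distrib]
  congr 1
  · refine Finset.sum_congr rfl fun i _ => ?_
    rw [hadd, mul_pow, mul_pow]
    linear_combination (u (.inl i) * v (.inl i) ^ q₀) * (inv_mul_cancel₀ hs0 + hinv + CharTwo.add_self_eq_zero (1 : F))
  · exact Finset.sum_congr rfl fun i _ => by ring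

end Cfsg.Agent.Lib.UnitDerange
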