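import Mathlib
import Cfsg.Agent.Lib.Semisimple.Basic
import Cfsg.Agent.Lib.DefectTwist.Count
import Cfsg.Agent.Lib.LinClasses.Model

/-!
The elements of order `r` modulo scalars in `SL_r(q)` for `r ∈ {3, 5}` exactly dividing `q - 1`: diagonal, with
eigenvalues paired about a middle one.
-/

set_option autoImplicit false

open scoped Matrix
open Cfsg.Agent.Lib

namespace Cfsg.Agent.Lib.UnitDerange

theorem pairing_five : ∀ a b c d : ZMod 5,
    ∃ f ∈ ([![0, 1, 2, 3, 4], ![0, 1, 3, 2, 4], ![0, 1, 4, 2, 3], ![1, 0, 2, 3, 4], ![1, 0, 3, 2, 4],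
        ![1, 0, 4, 2, 3], ![2, 0, 1, 3, 4], ![2, 0, 3, 1, 4], ![2, 0, 4, 1, 3], ![3, 0, 1, 2, 4],
        ![3, 0, 2, 1, 4], ![3, 0, 4, 1, 2], ![4, 0, 1, 2, 3], ![4, 0, 2, 1, 3], ![4, 0, 3, 1, 2]] :
        List (Fin 5 → Fin 5)),
      ![a, b, c, d, -(a + b + c + d)] (f 1) + ![a, b, c, d, -(a + b + c + d)] (f 2) =
          2 * ![a, b, c, d, -(a + b + c + d)] (f 0) ∧
        ![a, b, c, d, -(a + b + c + d)] (f 3) + ![a, b, c, d, -(a + b + c + d)] (f 4) =
          2 * ![a, b, c, d, -(a + b + c + d)] (f 0) := by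
  decide +kernel

theorem pairing_five_bijective :
    ∀ f ∈ ([![0, 1, 2, 3, 4], ![0, 1, 3, 2, 4], ![0, 1, 4, 2, 3], ![1, 0, 2, 3, 4], ![1, 0, 3, 2, 4],
        ![1, 0, 4, 2, 3], ![2, 0, 1, 3, 4], ![2, 0, 3, 1, 4], ![2, 0, 4, 1, 3], ![3, 0, 1, 2, 4],
        ![3, 0, 2, 1, 4], ![3, 0, 4, 1, 2], ![4, 0, 1, 2, 3], ![4, 0, 2, 1, 3], ![4, 0, 3, 1, 2]] :
        List (Fin 5 → Fin 5)), Function.Bijective f := by
  decide +kernel

theorem pairing_three : ∀ a b : ZMod 3,
    ∃ f ∈ ([![0, 1, 2], ![1, 0, 2], ![2, 0, 1]] : List (Fin 3 → Fin 3)),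
      ![a, b, -(a + b)] (f 1) + ![a, b, -(a + b)] (f 2) = 2 * ![a, b, -(a + b)] (f 0) := by
  decide +kernel

theorem pairing_three_bijective :
    ∀ f ∈ ([![0, 1, 2], ![1, 0, 2], ![2, 0, 1]] : List (Fin 3 → Fin 3)), Function.Bijective f := by
  decide +kernel

/-- The eigenvalues of an element of order `r` of `SL_r(q)`, `r ∈ {3, 5}` and `(q − 1)_r = r`, pair up. -/
theorem exists_pairing {F : Type*} [Field F] [Fintype F] {n r : ℕ} [Fact r.Prime]
    (hr : r = 3 ∨ r = 5) (hnr : n = r) (hv : padicValNat r (Fintype.card F - 1) = 1)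
    {x : GL (Fin n) F} (hdet : (x : Matrix (Fin n) (Fin n) F).det = 1) {z : F}
    (hz : (x : Matrix (Fin n) (Fin n) F) ^ r = z • 1) :
    ∃ (d : Fin n → F) (k : ℕ) (π : Unit ⊕ (Fin k ⊕ Fin k) ≃ Fin n),
      (∀ i, d i ^ r = 1) ∧ LinClasses.IsModel (x : Matrix (Fin n) (Fin n) F) (Matrix.diagonal d) ∧
      ∀ i, d (π (.inr (.inl i))) * d (π (.inr (.inr i))) = d (π (.inl ())) * d (π (.inl ())) := by
  classical
  subst hnr
  have hrp : n.Prime := Fact.out
  have hq1 : Fintype.card F - 1 ≠ 0 := by have := Fintype.one_lt_card (α := F); omega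
  have hdvd : n ∣ Fintype.card F - 1 := (dvd_iff_padicValNat_ne_zero hq1).2 (by rw [hv]; exact one_ne_zero)
  obtain ⟨w, hw⟩ : ∃ w : Fˣ, orderOf w = n := by
    refine exists_prime_orderOf_dvd_card' n ?_
    rw [Nat.card_units, Nat.card_eq_fintype_card]
    exact hdvd
  have hω : IsPrimitiveRoot (w : F) n := IsPrimitiveRoot.coe_units_iff.2 (hw ▸ IsPrimitiveRoot.orderOf w)
  set ω : F := (w : F) with hωdef
  have hn0 : (n : F) ≠ 0 := fun h => by
    obtain ⟨p, hp⟩ := CharP.exists F
    obtain ⟨⟨k, hk0⟩, hp', hk⟩ := FiniteField.card F p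
    have hpn : p = n := (Nat.prime_dvd_prime_iff_eq hp' hrp).1 ((CharP.cast_eq_zero_iff F p n).1 h)
    have h1 : 1 ≤ Fintype.card F := Fintype.card_pos
    have h3 : n ∣ Fintype.card F := by rw [hk, hpn]; exact dvd_pow_self n hk0.ne'
    exact hrp.ne_one (Nat.dvd_one.1 (by
      have := Nat.dvd_sub h3 hdvd
      rwa [show Fintype.card F - (Fintype.card F - 1) = 1 by omega] at this))
  have hzn : z ^ n = 1 := by
    have := congrArg Matrix.det hz
    rw [Matrix.det_pow, hdet, one_pow, Matrix.det_smul, Fintype.card_fin, Matrix.det_one, mul_one] at this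
    exact this.symm
  have hz1 : z = 1 := by
    by_contra hne
    have hnp : ∀ b : F, b ^ n ≠ z := fun b hb => by
      have hb0 : b ≠ 0 := fun h => by
        rw [h, zero_pow hrp.ne_zero] at hb
        rw [← hb, zero_pow hrp.ne_zero] at hzn
        exact zero_ne_one hzn
      have hord : orderOf (Units.mk0 b hb0) = n ^ (1 + 1) := by
        refine orderOf_eq_prime_pow (fun h => hne ?_) (Units.ext ?_)
        · rw [← hb]; simpa [Units.ext_iff] using h
        · simp [pow_succ, pow_mul, hb, hzn]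
      have h := orderOf_dvd_natCard (Units.mk0 b hb0)
      rw [hord, Nat.card_units, Nat.card_eq_fintype_card,
        padicValNat_dvd_iff_le hq1, hv] at h
      omega
    have hirr : Irreducible (Polynomial.X ^ n - Polynomial.C z : Polynomial F) :=
      X_pow_sub_C_irreducible_of_prime hrp hnp
    have haev : Polynomial.aeval (Matrix.toLin' (x : Matrix (Fin n) (Fin n) F))
        (Polynomial.X ^ n - Polynomial.C z) = 0 := by
      rw [map_sub, map_pow, Polynomial.aeval_X, Polynomial.aeval_C, ← Matrix.toLin'_pow, hz, map_smul,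
        Matrix.toLin'_one, sub_eq_zero]
      rfl
    obtain ⟨k, hk⟩ := Semisimple.charpoly_eq_pow _ _ hirr (Polynomial.monic_X_pow_sub_C z hrp.ne_zero) haev
    rw [← LinearMap.charpoly_toMatrix _ (Pi.basisFun F (Fin n)), LinearMap.toMatrix_eq_toMatrix',
      LinearMap.toMatrix'_toLin'] at hk
    have hdeg := congrArg Polynomial.natDegree hk
    rw [Matrix.charpoly_natDegree_eq_dim, Polynomial.natDegree_pow, Polynomial.natDegree_X_pow_sub_C,
      Fintype.card_fin] at hdeg
    have hk1 : k = 1 := (Nat.eq_of_mul_eq_mul_right hrp.pos (by omega : 1 * n = k * n)).symm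
    rw [hk1, pow_one] at hk
    have := Matrix.det_eq_sign_charpoly_coeff (x : Matrix (Fin n) (Fin n) F)
    rw [hk, hdet, Fintype.card_fin, Polynomial.coeff_sub, Polynomial.coeff_X_pow, if_neg hrp.ne_zero.symm,
      Polynomial.coeff_C_zero] at this
    have hoddn : Odd n := hrp.odd_of_ne_two (by omega)
    rw [hoddn.neg_one_pow] at this
    exact hne (by linear_combination -this)
  subst hz1
  rw [one_smul] at hz
  obtain ⟨κ, _, b, c, hbc⟩ := DefectTwist.exists_eigenbasis hω hn0
    (u := Matrix.toLin' (x : Matrix (Fin n) (Fin n) F)) (by rw [← Matrix.toLin'_pow, hz, Matrix.toLin'_one]; rfl)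
  have hcard : Fintype.card κ = n := by
    rw [← Module.finrank_eq_card_basis b, Module.finrank_fin_fun]
  let eκ : κ ≃ Fin n := Fintype.equivFinOfCardEq hcard
  let B := b.reindex eκ
  set d : Fin n → F := fun i => c (eκ.symm i) with hd
  have hB : ∀ i, (x : Matrix (Fin n) (Fin n) F) *ᵥ B i = d i • B i := fun i => by
    rw [← Matrix.toLin'_apply]
    simpa [B, hd] using hbc (eκ.symm i)
  have hM : LinClasses.IsModel (x : Matrix (Fin n) (Fin n) F) (Matrix.diagonal d) := by
    refine ⟨B.equivFun.symm, fun v => ?_⟩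
    rw [B.equivFun_symm_apply, B.equivFun_symm_apply, Matrix.mulVec_sum]
    refine Finset.sum_congr rfl fun i _ => ?_
    rw [Matrix.mulVec_smul, hB, Matrix.mulVec_diagonal, smul_smul, mul_comm]
  have hdn : ∀ i, d i ^ n = 1 := by
    intro i
    have hpow : ∀ k : ℕ, ((x : Matrix (Fin n) (Fin n) F) ^ k) *ᵥ B i = d i ^ k • B i := by
      intro k
      induction k with
      | zero => simp
      | succ k ih => rw [pow_succ', ← Matrix.mulVec_mulVec, ih, Matrix.mulVec_smul, hB, smul_smul, ← pow_succ]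
    have h := hpow n
    rw [hz, Matrix.one_mulVec] at h
    exact smul_left_injective F (B.ne_zero i) (h.symm.trans (one_smul F (B i)).symm)
  choose j hjn hj using fun i => hω.eq_pow_of_pow_eq_one (hdn i)
  have hsum : (∑ i, (j i : ZMod n)) = 0 := by
    have h : ∏ i, d i = 1 := by rw [← Matrix.det_diagonal, ← hM.det_eq, hdet]
    rw [← Finset.prod_congr rfl (fun i _ => hj i), Finset.prod_pow_eq_pow_sum, hω.pow_eq_one_iff_dvd,
      ← ZMod.natCast_eq_zero_iff] at h
    simpa using h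
  have hmul : ∀ a b c : Fin n, (j a : ZMod n) + j b = 2 * j c → d a * d b = d c * d c := by
    intro a b c h
    rw [← hj, ← hj, ← hj, ← pow_add, ← pow_add]
    have h' : ((j a + j b : ℕ) : ZMod n) = ((j c + j c : ℕ) : ZMod n) := by push_cast; rw [h]; ring
    rw [ZMod.natCast_eq_natCast_iff'] at h'
    rw [← Nat.div_add_mod (j a + j b) n, pow_add, pow_mul, hω.pow_eq_one, one_pow, one_mul, h']
    conv_rhs => rw [← Nat.div_add_mod (j c + j c) n, pow_add, pow_mul, hω.pow_eq_one, one_pow, one_mul]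
  rcases hr with rfl | rfl
  · rw [Fin.sum_univ_three] at hsum
    obtain ⟨f, hf, h⟩ := pairing_three (j 0) (j 1)
    have hg : ![(j 0 : ZMod 3), (j 1 : ZMod 3), -((j 0 : ZMod 3) + j 1)] = fun i => (j i : ZMod 3) := by
      funext i
      fin_cases i <;> simp
      linear_combination -hsum
    simp only [hg] at h
    let o : Unit ⊕ (Fin 1 ⊕ Fin 1) ≃ Fin 3 :=
      { toFun := Sum.elim (fun _ => 0) (Sum.elim (fun _ => 1) (fun _ => 2))
        invFun := ![Sum.inl (), Sum.inr (Sum.inl 0), Sum.inr (Sum.inr 0)]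
        left_inv := by decide
        right_inv := by decide }
    refine ⟨d, 1, o.trans (Equiv.ofBijective f (pairing_three_bijective f hf)), hdn, hM, fun i => ?_⟩
    exact hmul _ _ _ h
  · rw [Fin.sum_univ_five] at hsum
    obtain ⟨f, hf, h, h'⟩ := pairing_five (j 0) (j 1) (j 2) (j 3)
    have hg : ![(j 0 : ZMod 5), (j 1 : ZMod 5), (j 2 : ZMod 5), (j 3 : ZMod 5),
        -((j 0 : ZMod 5) + j 1 + j 2 + j 3)] = fun i => (j i : ZMod 5) := by
      funext i
      fin_cases i <;> simp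
      linear_combination -hsum
    simp only [hg] at h h'
    let o : Unit ⊕ (Fin 2 ⊕ Fin 2) ≃ Fin 5 :=
      { toFun := Sum.elim (fun _ => 0) (Sum.elim ![1, 3] ![2, 4])
        invFun := ![Sum.inl (), Sum.inr (Sum.inl 0), Sum.inr (Sum.inr 0), Sum.inr (Sum.inl 1), Sum.inr (Sum.inr 1)]
        left_inv := by decide
        right_inv := by decide }
    refine ⟨d, 2, o.trans (Equiv.ofBijective f (pairing_five_bijective f hf)), hdn, hM, fun i => ?_⟩
    fin_cases i
    · exact hmul _ _ _ h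
    · exact hmul _ _ _ h'

end Cfsg.Agent.Lib.UnitDerange
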