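import Mathlib
import Cfsg.Agent.Lib.UnitDerange.Basic
import Cfsg.Agent.Lib.LinClasses.SquareRoot
import Cfsg.Agent.Lib.OrthDerange.DiagWitness

/-!
Elements of prime order preserving no non-degenerate unitary form up to a scalar.
-/

set_option autoImplicit false

open scoped Matrix
open Cfsg.Agent.Lib

namespace Cfsg.Agent.Lib.UnitDerange

variable {F : Type*} [Field F] [Fintype F] {q₀ : ℕ}

theorem exists_ne_zero {ι : Type} [Fintype ι] {f : (ι → F) → (ι → F) → F}
    (hf : Cfsg.Geo.IsUnitaryFormPow q₀ f) [Nonempty ι] : ∃ u v, f u v ≠ 0 := by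
  classical
  obtain ⟨i⟩ := ‹Nonempty ι›
  obtain ⟨⟨v, hv⟩, -⟩ := hf.nondegenerate (Pi.single i 1) (by simp)
  exact ⟨_, _, hv⟩

/-- Multipliers lie in the fixed field. -/
theorem multiplier_fixed {ι : Type} [Fintype ι] [Nonempty ι] (hF : Fintype.card F = q₀ ^ 2)
    {f : (ι → F) → (ι → F) → F} (hf : Cfsg.Geo.IsUnitaryFormPow q₀ f) {x : Matrix ι ι F} {c : F}
    (hc : ∀ u v, f (x *ᵥ u) (x *ᵥ v) = c * f u v) : c ^ q₀ = c := by
  obtain ⟨u, v, h⟩ := exists_ne_zero hf
  have h1 := hc v u
  rw [hf.herm, hc, mul_pow, ← hf.herm] at h1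
  have h2 : f v u ≠ 0 := fun e => h (by
    have : q₀ ≠ 0 := by have := Forms.two_le_of_card_sq hF; omega
    rw [hf.herm, e, zero_pow this])
  exact mul_right_cancel₀ h2 h1

/-- The multiplier of a power. -/
theorem pow_multiplier {ι : Type} [Fintype ι] [DecidableEq ι] {f : (ι → F) → (ι → F) → F} {x : Matrix ι ι F} {c : F}
    (hc : ∀ u v, f (x *ᵥ u) (x *ᵥ v) = c * f u v) (k : ℕ) (u v : ι → F) :
    f ((x ^ k) *ᵥ u) ((x ^ k) *ᵥ v) = c ^ k * f u v := by
  induction k with
  | zero => simp
  | succ k ih =>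
    rw [pow_succ', ← Matrix.mulVec_mulVec, ← Matrix.mulVec_mulVec, hc, ih]
    ring

/-- Square roots of a non-square scalar. -/
theorem invol_noHerm (hF : Fintype.card F = q₀ ^ 2) (h2 : (2 : F) ≠ 0) {ι : Type} [Fintype ι] [DecidableEq ι]
    [Nonempty ι] {x : Matrix ι ι F} {z : F} (hz : ¬ IsSquare z) (hx : x * x = z • 1) :
    NoHermSimilitude q₀ x := by
  intro f hf c hc0 hc
  have hz0 : z ≠ 0 := fun h => hz (h ▸ IsSquare.zero)
  have hfix := multiplier_fixed hF hf hc
  obtain ⟨u, v, huv⟩ := exists_ne_zero hf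
  have h := pow_multiplier hc 2 u v
  rw [pow_two x, hx, Matrix.smul_mulVec, Matrix.smul_mulVec, Matrix.one_mulVec, Matrix.one_mulVec, hf.smul_left,
    smul_right hf, ← mul_assoc] at h
  have hc2 : z * z ^ q₀ = c ^ 2 := mul_right_cancel₀ huv h
  have hrc : ringChar F ≠ 2 := fun h => h2 (by
    have := ringChar.charP F
    rw [h] at this
    exact CharTwo.two_eq_zero)
  have hodd : Odd q₀ := by
    have := FiniteField.odd_card_of_char_ne_two hrc
    rw [Nat.odd_iff, hF] at *
    rcases Nat.even_or_odd q₀ with ⟨m, rfl⟩ | h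
    · ring_nf at this; omega
    · exact Nat.odd_iff.1 h
  obtain ⟨h', rfl⟩ := hodd
  apply hz
  rw [FiniteField.isSquare_iff hrc hz0, hF,
    show (2 * h' + 1) ^ 2 / 2 = (2 * h' + 1 + 1) * h' by
      rw [show (2 * h' + 1) ^ 2 = 2 * ((2 * h' + 1 + 1) * h') + 1 by ring]; omega,
    pow_mul, pow_succ', hc2, ← pow_mul]
  rw [pow_succ] at hfix
  exact mul_right_cancel₀ hc0 (by rw [hfix, one_mul])

/-- A diagonal similitude has symmetric multiplicities. -/
theorem diag_multiplicity (hF : Fintype.card F = q₀ ^ 2) {ι : Type} [Fintype ι] [DecidableEq ι] {d : ι → F}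
    (hd : ∀ i, d i ≠ 0) (hfix : ∀ i, d i ^ q₀ = d i) {f : (ι → F) → (ι → F) → F}
    (hf : Cfsg.Geo.IsUnitaryFormPow q₀ f) {c : F}
    (hc : ∀ u v, f (Matrix.diagonal d *ᵥ u) (Matrix.diagonal d *ᵥ v) = c * f u v) {y : F} (hy : y ≠ 0) :
    Nat.card {i // d i = y} = Nat.card {i // d i = c / y} := by
  classical
  set G : Matrix ι ι F := Matrix.of fun i j => f (Pi.single i 1) (Pi.single j 1) with hGdef
  obtain ⟨σ, hσ⟩ : ∃ σ : Equiv.Perm ι, ∀ i, G (σ i) i ≠ 0 := by
    by_contra h
    push Not at h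
    apply det_gram_ne_zero hF hf
    rw [Matrix.det_apply]
    refine Finset.sum_eq_zero fun σ _ => ?_
    obtain ⟨i, hi⟩ := h σ
    exact (congrArg _ (Finset.prod_eq_zero (f := fun j => G (σ j) j) (Finset.mem_univ i) hi)).trans (smul_zero _)
  have hpair : ∀ i, d (σ i) * d i = c := by
    intro i
    have e : ∀ j, Matrix.diagonal d *ᵥ (Pi.single j 1) = d j • (Pi.single j 1 : ι → F) := fun j => by
      ext k
      rw [Matrix.mulVec_diagonal]
      by_cases hk : k = j
      · simp [hk]
      · simp [Pi.single_apply, hk]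
    have h := hc (Pi.single (σ i) 1) (Pi.single i 1)
    rw [e, e, hf.smul_left, smul_right hf, hfix, ← mul_assoc] at h
    exact mul_right_cancel₀ (hσ i) h
  refine Nat.card_congr (Equiv.subtypeEquiv σ fun i => ?_)
  rw [eq_div_iff hy]
  constructor
  · intro h; rw [← h]; exact hpair i
  · intro h; exact mul_left_cancel₀ (hd (σ i)) (by rw [hpair i, h])

/-- The witness for `r ∣ q₀ - 1`. -/
theorem exists_diag_noHerm (hF : Fintype.card F = q₀ ^ 2) {r : ℕ} [Fact r.Prime] (hr2 : r ≠ 2) {n : ℕ} (hn : 3 ≤ n)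
    (hgap : ¬ (n = 6 ∧ r = 3)) (hrq : r ∣ q₀ - 1)
    (hex : (r = 3 ∨ r = 5) → n = r → r ^ 2 ∣ q₀ - 1) :
    ∃ (M : Matrix (Fin n) (Fin n) F) (z : F), M ^ r = z • 1 ∧ M.det = 1 ∧ (∀ c : F, M ≠ c • 1) ∧
      NoHermSimilitude q₀ M := by
  classical
  have hq := Forms.two_le_of_card_sq hF
  have hN : q₀ - 1 ∣ Nat.card Fˣ := by
    rw [Nat.card_units, Nat.card_eq_fintype_card, hF]
    exact ⟨q₀ + 1, by rw [mul_comm, ← Nat.sq_sub_sq, one_pow]⟩
  obtain ⟨d, z, hdr, hdet, hdN, hns, hp⟩ := OrthDerange.exists_diag_noPair hr2 hn hgap hN hrq hex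
  have hd0 : ∀ i, d i ≠ 0 := fun i h => by
    have := hdN i
    rw [h, zero_pow (by omega)] at this
    exact zero_ne_one this
  refine ⟨Matrix.diagonal d, z, ?_, by rw [Matrix.det_diagonal, hdet], fun c hc => ?_, fun f hf c hc0 hc => ?_⟩
  · rw [Matrix.diagonal_pow, Matrix.smul_one_eq_diagonal]
    exact congrArg _ (funext hdr)
  · obtain ⟨i, hi⟩ := hns c
    have := congrFun (congrFun hc i) i
    simp at this
    exact hi this
  · refine hp c hc0 fun y hy => diag_multiplicity hF hd0 (fun i => ?_) hf hc hy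
    conv_lhs => rw [show q₀ = q₀ - 1 + 1 by omega, pow_succ, hdN, one_mul]

open Polynomial in
/-- The witness for `r` prime to `q₀² - 1` with `(-q₀) ^ j ≡ -1`. -/
theorem field_noHerm (hF : Fintype.card F = q₀ ^ 2) (p : ℕ) [Fact p.Prime] [CharP F p] {r : ℕ} [Fact r.Prime]
    (hr : r ≠ 2) (hroot : ∀ z : F, z ^ r = 1 → z = 1) (n j : ℕ) (hj : 1 ≤ j) (hjn : j ≤ n)
    (hjr : (-(q₀ : ZMod r)) ^ j = -1) :
    ∃ x : Matrix (Fin n) (Fin n) F,
      x ^ r = 1 ∧ x.det = 1 ∧ (∀ z : F, x ≠ z • 1) ∧ NoHermSimilitude q₀ x := by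
  classical
  have hrp : r.Prime := Fact.out
  have : NeZero j := ⟨by omega⟩
  have hrd : r ∣ Fintype.card F ^ j - 1 := by
    rw [← ZMod.natCast_eq_zero_iff, Nat.cast_sub (Nat.one_le_pow _ _ Fintype.card_pos), Nat.cast_pow, hF,
      Nat.cast_pow, Nat.cast_one, sub_eq_zero, ← pow_mul, ← (show (-(q₀ : ZMod r)) ^ (2 * j) = (q₀ : ZMod r) ^ (2 * j)
        by rw [Even.neg_pow (even_two_mul j)]), mul_comm 2 j, pow_mul, hjr, neg_one_sq]
  let L := FiniteField.Extension F p j
  have : Fintype L := Fintype.ofFinite L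
  obtain ⟨w, hw⟩ : ∃ w : Lˣ, orderOf w = r := by
    refine exists_prime_orderOf_dvd_card' r ?_
    rw [Nat.card_units, FiniteField.natCard_extension, Nat.card_eq_fintype_card]
    exact hrd
  set ω : L := (w : L) with hω
  have hωo : orderOf ω = r := by rw [hω, orderOf_units, hw]
  have hωr : ω ^ r = 1 := by rw [hω, ← Units.val_pow_eq_pow_val, ← hw, pow_orderOf_eq_one, Units.val_one]
  have hω1 : ω ≠ 1 := fun h => by
    rw [Units.val_eq_one.1 h, orderOf_one] at hw
    exact hrp.ne_one hw.symm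
  let W := Fin (n - j) → F
  let e : (L × W) ≃ₗ[F] (Fin n → F) :=
    LinearEquiv.ofFinrankEq _ _ (by
      rw [Module.finrank_prod, FiniteField.finrank_extension, Module.finrank_pi, Module.finrank_pi,
        Fintype.card_fin, Fintype.card_fin]
      omega)
  let T : Module.End F (L × W) := (LinearMap.mulLeft F ω).prodMap LinearMap.id
  have hTk : ∀ k : ℕ, ∀ v : L × W, (T ^ k) v = (ω ^ k * v.1, v.2) := by
    intro k
    induction k with
    | zero => simp
    | succ k ih => intro v; rw [pow_succ, Module.End.mul_apply, ih]; simp [T, pow_succ, mul_assoc]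
  set x := LinearMap.toMatrix' (e.conj T) with hx
  have hxv : ∀ v, x *ᵥ e v = e (T v) := fun v => by
    rw [hx, LinearMap.toMatrix'_mulVec, LinearEquiv.conj_apply_apply, e.symm_apply_apply]
  have hk : ∀ (k : ℕ) (v : L × W), (x ^ k) *ᵥ e v = e ((T ^ k) v) := by
    intro k
    induction k with
    | zero => simp
    | succ k ih =>
      intro v
      rw [pow_succ', ← Matrix.mulVec_mulVec, ih, hxv, pow_succ' T, Module.End.mul_apply]
  have hxpow : x ^ r = 1 := by
    apply Matrix.toLin'.injective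
    refine LinearMap.ext fun v => ?_
    obtain ⟨v, rfl⟩ := e.surjective v
    rw [Matrix.toLin'_apply, hk r, hTk r v, hωr, one_mul, Matrix.toLin'_one, LinearMap.id_apply]
  have hdet : x.det = 1 := hroot _ (by rw [← Matrix.det_pow, hxpow, Matrix.det_one])
  refine ⟨x, hxpow, hdet, fun z hz => ?_, fun f hf c _ hc => ?_⟩
  · have hid : ∀ v : L × W, T v = z • v := fun v => e.injective (by
      rw [← hxv, hz, map_smul, Matrix.smul_mulVec, Matrix.one_mulVec])
    have h1 := congrArg Prod.fst (hid (1, 0))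
    simp only [T, LinearMap.prodMap_apply, LinearMap.mulLeft_apply, mul_one, Prod.smul_fst] at h1
    rw [← Algebra.algebraMap_eq_smul_one] at h1
    have hz1 : z = 1 := hroot z ((algebraMap F L).injective (by rw [map_pow, ← h1, hωr, map_one]))
    rw [hz1, map_one] at h1
    exact hω1 h1
  · have : Nonempty (Fin n) := ⟨⟨0, by omega⟩⟩
    have hc1 : c = 1 := by
      obtain ⟨u, v, huv⟩ := exists_ne_zero hf
      have h := pow_multiplier hc r u v
      rw [hxpow, Matrix.one_mulVec, Matrix.one_mulVec] at h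
      exact hroot c ((mul_eq_right₀ huv).1 h.symm)
    subst hc1
    set σ₀ := Forms.qPowHom hF with hσ₀
    let S := T ^ (r - 1)
    have hkS : ∀ (k : ℕ) u v, f (e ((T ^ k) u)) (e v) = f (e u) (e ((S ^ k) v)) := by
      intro k u v
      have hTS : ∀ w, (T ^ k) ((S ^ k) w) = w := fun w => by
        rw [← Module.End.mul_apply, ← pow_mul, ← pow_add, hTk, show k + (r - 1) * k = r * k by
          obtain ⟨t, rfl⟩ : ∃ t, r = t + 1 := ⟨r - 1, by have := hrp.pos; omega⟩
          simp; ring, pow_mul, hωr, one_pow, one_mul]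
      conv_lhs => rw [← hTS v, ← hk, ← hk, pow_multiplier hc, one_pow, one_mul]
    have hadj : ∀ (P : F[X]) u v, f (e (aeval T P u)) (e v) = f (e u) (e (aeval S (P.map σ₀) v)) := by
      intro P
      induction P using Polynomial.induction_on' with
      | add P Q hP hQ =>
        intro u v
        rw [Polynomial.map_add, map_add, map_add, LinearMap.add_apply, LinearMap.add_apply, map_add, map_add,
          hf.add_left, add_right hF hf, hP, hQ]
      | monomial k a =>
        intro u v
        simp only [Polynomial.map_monomial, aeval_monomial, Module.End.mul_apply, Module.algebraMap_end_apply,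
          map_smul, hf.smul_left, smul_right hf, hσ₀, Forms.qPowHom_apply, Forms.pow_q_pow_q hF, hkS]
    let m := minpoly F ω * (X - 1)
    have haev : ∀ (k : ℕ) (P : F[X]) (v : L × W),
        aeval (T ^ k) P v = (aeval (ω ^ k) P * v.1, P.eval 1 • v.2) := by
      intro k P
      induction P using Polynomial.induction_on' with
      | add P Q hP hQ => intro v; simp [map_add, hP, hQ, add_mul, add_smul]
      | monomial i a =>
        intro v
        simp [aeval_monomial, ← pow_mul, hTk, Algebra.smul_def, mul_assoc]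
    have hmT : aeval T m = 0 := by
      refine LinearMap.ext fun v => ?_
      rw [← pow_one T, haev 1 m v]
      simp [m, minpoly.aeval]
    have hzero : ∀ v, (∀ u, f u v = 0) → v = 0 := fun v hv => by
      by_contra h0
      obtain ⟨⟨a, ha⟩, ⟨b, hb⟩⟩ := hf.nondegenerate v h0
      first
        | exact ha (hv a)
        | exact hb (hv b)
    have hmS : ∀ v, aeval S (m.map σ₀) v = 0 := by
      intro v
      apply e.map_eq_zero_iff.1
      refine hzero _ fun u => ?_
      obtain ⟨u, rfl⟩ := e.surjective u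
      rw [← hadj, hmT, LinearMap.zero_apply, map_zero, show (0 : Fin n → F) = (0 : F) • 0 by simp, hf.smul_left,
        zero_mul]
    have h1 := congrArg Prod.fst (hmS (1, 0))
    rw [haev] at h1
    simp only [m, Polynomial.map_mul, Polynomial.map_sub, Polynomial.map_X, Polynomial.map_one, map_mul, map_sub,
      aeval_X, map_one, mul_one, Prod.fst_zero, mul_eq_zero, sub_eq_zero] at h1
    have hne : ω ^ (r - 1) ≠ 1 := fun h => hω1 (by
      have := hωr; rwa [← Nat.sub_add_cancel hrp.one_le, pow_succ, h, one_mul] at this)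
    have hη := h1.resolve_right hne
    obtain ⟨a, ha⟩ : ∃ a, q₀ = p ^ a := by
      obtain ⟨kk, hp, hkc⟩ := FiniteField.card F p
      have hdvd : q₀ ∣ p ^ (kk : ℕ) := by
        rw [← hkc, hF]
        exact dvd_pow_self q₀ (by norm_num)
      obtain ⟨a, -, ha⟩ := (Nat.dvd_prime_pow hp).1 hdvd
      exact ⟨a, ha⟩
    have : ExpChar F p := ExpChar.prime Fact.out
    have : CharP L p := charP_of_injective_algebraMap (algebraMap F L).injective p
    have : ExpChar L p := ExpChar.prime Fact.out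
    have hroot' : aeval ((ω ^ (r - 1)) ^ q₀) (minpoly F ω) = 0 := by
      have h := congrArg (iterateFrobenius L p a) hη
      rw [map_zero, aeval_def, Polynomial.hom_eval₂, Polynomial.eval₂_map, iterateFrobenius_def, ← ha] at h
      rw [aeval_def]
      refine (?_ : _ = _).trans h
      congr 1
      refine RingHom.ext fun t => ?_
      simp only [RingHom.comp_apply, iterateFrobenius_def, ← ha, hσ₀, Forms.qPowHom_apply, map_pow, ← pow_mul,
        ← sq, ← hF]
      rw [← map_pow, FiniteField.pow_card]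
    obtain ⟨σ, hσ⟩ := minpoly.exists_algEquiv_of_root' (Algebra.IsAlgebraic.isAlgebraic ω) hroot'
    rw [← pow_mul] at hσ
    have hσi : ∀ i : ℕ, (σ ^ i) ω = ω ^ (((r - 1) * q₀) ^ i) := by
      intro i
      induction i with
      | zero => simp
      | succ i ih => rw [pow_succ', AlgEquiv.mul_apply, ih, map_pow, hσ, ← pow_mul, ← pow_succ']
    have hσj : σ ^ j = 1 := by
      have h := pow_card_eq_one' (x := σ)
      rwa [FiniteField.natCard_algEquiv_extension] at h
    have h := hσi j
    rw [hσj, AlgEquiv.one_apply] at h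
    nth_rw 1 [← pow_one ω] at h
    rw [(orderOf_pos_iff.1 (hωo ▸ hrp.pos)).pow_eq_pow_iff_modEq, hωo, ← ZMod.natCast_eq_natCast_iff, Nat.cast_pow, Nat.cast_mul,
      Nat.cast_sub hrp.one_le, ZMod.natCast_self, Nat.cast_one, zero_sub, neg_one_mul, hjr] at h
    have h2 : ((2 : ℕ) : ZMod r) = 0 := by push_cast; linear_combination h
    rw [ZMod.natCast_eq_zero_iff] at h2
    exact hr ((Nat.prime_dvd_prime_iff_eq hrp Nat.prime_two).1 h2)

end Cfsg.Agent.Lib.UnitDerange
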